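import Groth.Prelude.Def_Omega4
import Groth.Agent.FEtStein.General
import Groth.Agent.AbSchLib.SmoothReduced

/-!
# Global functions along a proper smooth morphism are killed by the relative differential
-/

set_option autoImplicit false
set_option linter.style.haveILetI false
set_option backward.isDefEq.respectTransparency.types false

universe u

open CategoryTheory CategoryTheory.Limits AlgebraicGeometry TopologicalSpace Opposite

namespace Groth.Agent.OmegaH3.ProperSmooth

/-- Derivations vanish on algebras that are étale over the base. -/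
theorem eq_zero_of_etale {A B M : Type u} [CommRing A] [CommRing B] [AddCommGroup M] [Module B M]
    (φ : A →+* B) (hφ : φ.Etale) (d : B →+ M) (hmul : ∀ a b : B, d (a * b) = a • d b + b • d a)
    (hzero : ∀ a, d (φ a) = 0) (b : B) : d b = 0 := by
  algebraize [φ]
  letI : Module A M := Module.compHom M φ
  haveI : IsScalarTower A B M := ⟨fun a x m => by
    show (a • x) • m = φ a • x • m
    rw [Algebra.smul_def, mul_smul]; rfl⟩
  let D : Derivation A B M :=
    { toLinearMap :=
        { toFun := d
          map_add' := map_add d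
          map_smul' := fun a x => by
            show d (a • x) = φ a • d x
            rw [Algebra.smul_def, hmul, RingHom.algebraMap_toAlgebra, hzero, smul_zero, add_zero] }
      map_one_eq_zero' := by
        show d 1 = 0
        rw [← map_one φ]; exact hzero 1
      leibniz' := hmul }
  have h := Derivation.liftKaehlerDifferential_comp_D D b
  rw [Subsingleton.elim (KaehlerDifferential.D A B b) 0, map_zero] at h
  exact h.symm

theorem etale_app_of_isProper {X S : Scheme.{u}} (f : X ⟶ S) [IsProper f] [Smooth f] {W : S.Opens}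
    (hW : IsAffineOpen W) : (f.app W).hom.Etale := by
  haveI : IsAffine W.toScheme := hW
  let fW := f ∣_ W
  haveI : IsProper fW := IsZariskiLocalAtTarget.restrict ‹IsProper f› W
  haveI : Smooth fW := IsZariskiLocalAtTarget.restrict ‹Smooth f› W
  obtain ⟨S', g, p, h, _, _, _, _, _, _, _⟩ := FEtStein.exists_factor_affine fW fun Ω _ _ σ => by
    haveI := AbSchLib.geometricallyReduced_of_smooth fW
    exact GeometricallyReduced.geometrically_isReduced _ _ _ (IsPullback.of_hasPullback fW σ)
  haveI : IsAffine S' := isAffine_of_isAffineHom p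
  have hp : p.appTop.hom.Etale := HasRingHomProperty.appTop @Etale p inferInstance
  have hg := FEtStein.bijective_appTop g
  have hfW : fW.appTop.hom.Etale := by
    rw [h, Scheme.Hom.comp_appTop, CommRingCat.hom_comp]
    exact RingHom.Etale.respectsIso.1 p.appTop.hom (RingEquiv.ofBijective g.appTop.hom hg) hp
  have e : fW.appTop = fW.appLE ⊤ ⊤ le_top := Scheme.Hom.app_eq_appLE fW
  rw [e, morphismRestrict_appLE] at hfW
  rw [Scheme.Hom.app_eq_appLE]
  exact (f.appLE_congr _ W.ι_image_top (f ⁻¹ᵁ W).ι_image_top (fun {R S} φ => φ.hom.Etale)).1 hfW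

theorem dOmega_eq_zero {X S : Scheme.{u}} (f : X ⟶ S) [IsProper f] [Smooth f] (V : S.Opens)
    (s : Γ(X, f ⁻¹ᵁ V)) : (OmegaSh.dOmega f).app (f ⁻¹ᵁ V) s = 0 := by
  refine TopCat.Presheaf.section_ext ⟨(Omega.sheaf f).presheaf, (Omega.sheaf f).isSheaf⟩ _ _ _ fun x hx => ?_
  obtain ⟨_, ⟨W, hW, rfl⟩, hxW, hWV⟩ := S.isBasis_affineOpens.exists_subset_of_mem_open (show f x ∈ (V : Set S) from hx) V.isOpen
  have hle : f ⁻¹ᵁ W ≤ f ⁻¹ᵁ V := fun y hy => hWV hy
  rw [← (Omega.sheaf f).presheaf.germ_res_apply (homOfLE hle) x hxW,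
    ← (Omega.sheaf f).presheaf.germ_res_apply (homOfLE hle) x hxW 0, map_zero]
  refine congrArg _ ?_
  refine (OmegaSh.dSect_map f hle s).symm.trans ?_
  exact eq_zero_of_etale (f.app W).hom (etale_app_of_isProper f hW) ((OmegaSh.dOmega f).app (f ⁻¹ᵁ W))
    (fun a b => (OmegaSh.dOmega f).d_mul a b) (fun c => (OmegaSh.dOmega f).d_app c) _

end Groth.Agent.OmegaH3.ProperSmooth
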